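import Cfsg.Agent.Lib.Basics.Tools
import Cfsg.Agent.Lib.Components.Subnormal

/-!
Sylow numbers and surjective homomorphisms.
-/

set_option autoImplicit false

namespace Cfsg.Agent.SylowNumbers

universe u v

variable {G : Type u} [Group G] [Finite G] {p : ℕ} [Fact p.Prime]

/-- `n_p(G) · |ker f ∩ N(P)| = n_p(H) · |ker f|` for surjective `f : G →* H`. -/
theorem card_sylow_mul_card_inf {H : Type v} [Group H] (f : G →* H) (hf : Function.Surjective f)
    (P : Sylow p G) :
    Nat.card (Sylow p G) *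
        Nat.card ↥(f.ker ⊓ Subgroup.normalizer ((P : Subgroup G) : Set G)) =
      Nat.card (Sylow p H) * Nat.card f.ker := by
  haveI : Finite H := Finite.of_surjective f hf
  set NP := Subgroup.normalizer ((P : Subgroup G) : Set G) with hNP
  rw [show Nat.card (Sylow p G) = NP.index from P.card_eq_index_normalizer,
    show Nat.card (Sylow p H) = (Subgroup.normalizer
      (((P.mapSurjective hf : Sylow p H) : Subgroup H) : Set H)).index from
      (P.mapSurjective hf).card_eq_index_normalizer]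
  have hmap : Subgroup.normalizer (((P.mapSurjective hf : Sylow p H) : Subgroup H) : Set H) =
      NP.map f := by
    rw [Sylow.coe_mapSurjective]
    refine le_antisymm ?_ (Subgroup.le_normalizer_map f)
    intro y hy
    obtain ⟨g, rfl⟩ := hf y
    -- Frattini argument in `P ⊔ ker f`
    set M := (P : Subgroup G) ⊔ f.ker with hM
    have hM' : M = ((P : Subgroup G).map f).comap f := (Subgroup.comap_map_eq f _).symm
    have hgM : ∀ x ∈ (P : Subgroup G), g * x * g⁻¹ ∈ M := by
      intro x hx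
      rw [hM', Subgroup.mem_comap, map_mul, map_mul, map_inv]
      exact (Subgroup.mem_normalizer_iff.mp hy _).mp (Subgroup.mem_map_of_mem f hx)
    have hle : ((g • P : Sylow p G) : Subgroup G) ≤ M := by
      intro z hz
      rw [Sylow.coe_subgroup_smul, Basics.mem_conj_smul] at hz
      have := hgM _ hz
      simpa [mul_assoc] using this
    obtain ⟨m, hm⟩ := MulAction.exists_smul_eq M
      ((g • P).subtype hle) (P.subtype le_sup_left)
    have hm' : (m : G) * g ∈ NP := by
      refine Sylow.smul_eq_iff_mem_normalizer.mp ?_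
      rw [mul_smul]
      have h1 := congrArg (fun S : Sylow p M => ((S : Subgroup M)).map M.subtype) hm
      refine Sylow.ext ?_
      simp only [Sylow.smul_subtype, Sylow.coe_subtype] at h1
      rw [Subgroup.map_subgroupOf_eq_of_le (Sylow.smul_le hle m), Subgroup.map_subgroupOf_eq_of_le le_sup_left] at h1
      exact h1
    have hm2 : (m : G)⁻¹ ∈ (f.ker ⊔ (P : Subgroup G) : Subgroup G) := by
      have h7 := M.inv_mem m.2
      simp only [hM, sup_comm f.ker] at h7 ⊢
      exact h7
    rw [← SetLike.mem_coe, Subgroup.normal_mul] at hm2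
    obtain ⟨k, hk, x, hx, hkx⟩ := hm2
    refine ⟨x * ((m : G) * g), NP.mul_mem (Subgroup.le_normalizer hx) hm', ?_⟩
    have hk' : f k = 1 := hk
    have h3 : f (x * ((m : G) * g)) = f (k * x * (m : G)) * f g := by
      simp only [map_mul, hk', one_mul, mul_assoc]
    rw [h3, show k * x * (m : G) = 1 by rw [show k * x = (m : G)⁻¹ from hkx, inv_mul_cancel],
      map_one, one_mul]
  rw [hmap]
  have h1 := NP.index_mul_card
  have h2 := (NP.map f).index_mul_card
  have h3 : Nat.card (NP.map f) * Nat.card ↥(f.ker ⊓ NP) = Nat.card NP := by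
    have h4 := (f.comp NP.subtype).ker.card_eq_card_quotient_mul_card_subgroup
    rw [Nat.card_congr (QuotientGroup.quotientKerEquivRange _).toEquiv, MonoidHom.range_comp,
      Subgroup.range_subtype] at h4
    rw [h4]
    congr 1
    refine Nat.card_congr
      { toFun := fun x => ⟨⟨(x : G), x.2.2⟩, x.2.1⟩
        invFun := fun x => ⟨((x : NP) : G), x.2, (x : NP).2⟩
        left_inv := fun x => rfl
        right_inv := fun x => rfl }
  have h5 : Nat.card H * Nat.card f.ker = Nat.card G := by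
    rw [f.ker.card_eq_card_quotient_mul_card_subgroup,
      Nat.card_congr (QuotientGroup.quotientKerEquivOfSurjective f hf).toEquiv]
  have hpos : 0 < Nat.card (NP.map f) := Nat.card_pos
  refine Nat.eq_of_mul_eq_mul_right hpos ?_
  calc NP.index * Nat.card ↥(f.ker ⊓ NP) * Nat.card (NP.map f)
      = NP.index * (Nat.card (NP.map f) * Nat.card ↥(f.ker ⊓ NP)) := by ring
    _ = Nat.card G := by rw [h3, h1]
    _ = Nat.card H * Nat.card f.ker := h5.symm
    _ = _ := by rw [← h2]; ring

/-- multiplicativity over two normal subgroups meeting trivially -/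
theorem card_sylow_mul_of_inf_eq_bot (p : ℕ) [Fact p.Prime] (M N : Subgroup G) [M.Normal]
    [N.Normal] (hMN : M ⊓ N = ⊥) :
    Nat.card (Sylow p G) * Nat.card (Sylow p (G ⧸ (M ⊔ N))) =
      Nat.card (Sylow p (G ⧸ M)) * Nat.card (Sylow p (G ⧸ N)) := by
  let P : Sylow p G := default
  set π := QuotientGroup.mk' N with hπ
  have hπs : Function.Surjective π := QuotientGroup.mk'_surjective N
  set g : G ⧸ N →* G ⧸ (M ⊔ N) := QuotientGroup.map N (M ⊔ N) (MonoidHom.id G) le_sup_right with hg
  have hgs : Function.Surjective g := fun z => by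
    obtain ⟨x, rfl⟩ := QuotientGroup.mk_surjective z
    exact ⟨(x : G ⧸ N), rfl⟩
  have e1 := card_sylow_mul_card_inf (QuotientGroup.mk' M) (QuotientGroup.mk'_surjective M) P
  rw [QuotientGroup.ker_mk'] at e1
  have e2 := card_sylow_mul_card_inf g hgs (P.mapSurjective hπs)
  have hker : g.ker = M.map π := by
    ext z
    obtain ⟨x, rfl⟩ := QuotientGroup.mk_surjective z
    rw [MonoidHom.mem_ker, show g (x : G ⧸ N) = ((x : G) : G ⧸ (M ⊔ N)) from rfl,
      QuotientGroup.eq_one_iff, show ((x : G ⧸ N) ∈ M.map π) ↔ x ∈ (M.map π).comap π from Iff.rfl,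
      Subgroup.comap_map_eq, hπ, QuotientGroup.ker_mk']
  have hinjM : ∀ x ∈ M, ∀ y ∈ M, π x = π y → x = y := fun x hx y hy he => by
    have h1 : x⁻¹ * y ∈ M ⊓ N := ⟨M.mul_mem (M.inv_mem hx) hy, QuotientGroup.eq.mp he⟩
    rw [hMN, Subgroup.mem_bot] at h1
    exact inv_mul_eq_one.mp h1
  have hc1 : Nat.card (M.map π) = Nat.card M := by
    refine (Nat.card_congr (Equiv.ofBijective
      (fun x : M => (⟨π x, Subgroup.mem_map_of_mem π x.2⟩ : M.map π)) ⟨?_, ?_⟩)).symm
    · exact fun x y he => Subtype.ext (hinjM x x.2 y y.2 (congrArg Subtype.val he))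
    · rintro ⟨_, x, hx, rfl⟩
      exact ⟨⟨x, hx⟩, rfl⟩
  set NP := Subgroup.normalizer ((P : Subgroup G) : Set G)
  set NP' := Subgroup.normalizer (((P.mapSurjective hπs : Sylow p (G ⧸ N)) : Subgroup (G ⧸ N)) : Set (G ⧸ N))
  set D := M ⊓ ((P : Subgroup G).map π).comap π with hD
  have hDp : IsPGroup p D := by
    intro d
    obtain ⟨w, hw, hwe⟩ := d.2.2
    obtain ⟨k, hk⟩ := P.isPGroup' ⟨w, hw⟩
    refine ⟨k, Subtype.ext (hinjM _ (M.pow_mem d.2.1 _) _ M.one_mem ?_)⟩
    rw [map_pow, ← hwe, ← map_pow, show w ^ p ^ k = 1 from congrArg Subtype.val hk, map_one]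
    exact (map_one π).symm
  have hPD : (P : Subgroup G) ≤ Subgroup.normalizer (D : Set G) := fun x hx =>
    Subgroup.inf_normalizer_le_normalizer_inf ⟨by
      rw [Subgroup.normalizer_eq_top]; exact Subgroup.mem_top x,
      Subgroup.le_normalizer (Subgroup.mem_comap.mpr (Subgroup.mem_map_of_mem π hx))⟩
  have hDP : D ≤ (P : Subgroup G) := by
    have h := P.is_maximal' (P.isPGroup'.to_sup_of_normal_right' hDp hPD) le_sup_left
    exact le_sup_right.trans_eq h
  have hmem : ∀ x ∈ M, π x ∈ NP' → x ∈ NP := by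
    intro x hx hxn
    refine Components.mem_normalizer_of_map_conj_eq ?_
    refine Subgroup.eq_of_le_of_card_ge ?_
      (Subgroup.card_map_of_injective (MulAut.conj x).injective).ge
    rintro _ ⟨y, hy, rfl⟩
    show x * y * x⁻¹ ∈ (P : Subgroup G)
    have h1 : x * y * x⁻¹ * y⁻¹ ∈ D := by
      refine ⟨?_, Subgroup.mem_comap.mpr ?_⟩
      · rw [show x * y * x⁻¹ * y⁻¹ = x * (y * x⁻¹ * y⁻¹) by group]
        exact M.mul_mem hx ((inferInstance : M.Normal).conj_mem _ (M.inv_mem hx) y)
      · rw [map_mul, map_mul, map_mul, map_inv, map_inv]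
        exact Subgroup.mul_mem _ ((Subgroup.mem_normalizer_iff.mp hxn _).mp
          (Subgroup.mem_map_of_mem π hy)) (Subgroup.inv_mem _ (Subgroup.mem_map_of_mem π hy))
    have h2 := (P : Subgroup G).mul_mem (hDP h1) hy
    rwa [inv_mul_cancel_right] at h2
  have hle : NP.map π ≤ NP' := Subgroup.le_normalizer_map π
  have hc2 : Nat.card ↥(g.ker ⊓ NP') = Nat.card ↥(M ⊓ NP) := by
    refine (Nat.card_congr (Equiv.ofBijective
      (fun x : ↥(M ⊓ NP) => (⟨π x, by rw [hker]; exact Subgroup.mem_map_of_mem π x.2.1,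
        hle (Subgroup.mem_map_of_mem π x.2.2)⟩ : ↥(g.ker ⊓ NP'))) ⟨?_, ?_⟩)).symm
    · exact fun x y he => Subtype.ext (hinjM x x.2.1 y y.2.1 (congrArg Subtype.val he))
    · rintro ⟨z, hz1, hz2⟩
      rw [hker] at hz1
      obtain ⟨x, hx, rfl⟩ := hz1
      exact ⟨⟨x, hx, hmem x hx hz2⟩, rfl⟩
  rw [hc2, hker, hc1] at e2
  have hpos : 0 < Nat.card M := Nat.card_pos
  refine Nat.eq_of_mul_eq_mul_right hpos ?_
  calc Nat.card (Sylow p G) * Nat.card (Sylow p (G ⧸ (M ⊔ N))) * Nat.card M
      = Nat.card (Sylow p G) * (Nat.card (Sylow p (G ⧸ (M ⊔ N))) * Nat.card M) := by ring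
    _ = Nat.card (Sylow p G) * (Nat.card (Sylow p (G ⧸ N)) * Nat.card ↥(M ⊓ NP)) := by rw [e2]
    _ = (Nat.card (Sylow p G) * Nat.card ↥(M ⊓ NP)) * Nat.card (Sylow p (G ⧸ N)) := by ring
    _ = _ := by rw [e1]; ring

end Cfsg.Agent.SylowNumbers
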