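import Mathlib

/-!
Groups all of whose Sylow numbers are prime powers: inheritance and the simple case,
relative to the two-prime theorem of Burnside.
-/

set_option autoImplicit false

namespace Cfsg.Agent.SylowNumbers

open scoped Pointwise

universe u

/-- every Sylow number is a prime power or one -/
def AllPrimePower (G : Type u) [Group G] : Prop :=
  ∀ (r : ℕ) [Fact r.Prime], Nat.card (Sylow r G) = 1 ∨ IsPrimePow (Nat.card (Sylow r G))

lemma primePow_of_dvd {a b : ℕ} (hb : b = 1 ∨ IsPrimePow b) (h : a ∣ b) : a = 1 ∨ IsPrimePow a := by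
  rcases hb with rfl | hb
  · exact Or.inl (Nat.dvd_one.mp h)
  · by_cases ha : a = 1
    · exact Or.inl ha
    · exact Or.inr (hb.dvd h ha)

lemma card_sylow_quotient_dvd {G : Type u} [Group G] [Finite G] (K : Subgroup G) [K.Normal]
    (r : ℕ) [Fact r.Prime] : Nat.card (Sylow r (G ⧸ K)) ∣ Nat.card (Sylow r G) := by
  obtain ⟨P⟩ : Nonempty (Sylow r G) := Sylow.nonempty
  have hf := QuotientGroup.mk'_surjective K
  rw [Sylow.card_eq_index_normalizer (P.mapSurjective hf), Sylow.card_eq_index_normalizer P]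
  refine dvd_trans (Subgroup.index_dvd_of_le ?_)
    (Subgroup.index_map_dvd _ hf)
  exact Subgroup.le_normalizer_map _

lemma card_sylow_normal_dvd {G : Type u} [Group G] [Finite G] (N : Subgroup G) [N.Normal]
    (r : ℕ) [Fact r.Prime] : Nat.card (Sylow r N) ∣ Nat.card (Sylow r G) := by
  obtain ⟨Q⟩ : Nonempty (Sylow r N) := Sylow.nonempty
  obtain ⟨P, hP⟩ := Sylow.exists_comap_subtype_eq Q
  rw [Sylow.card_eq_index_normalizer Q, Sylow.card_eq_index_normalizer P]
  have hle : (Subgroup.normalizer ((P : Subgroup G) : Set G)).subgroupOf N ≤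
      Subgroup.normalizer ((Q : Subgroup N) : Set N) := by
    intro x hx
    rw [Subgroup.mem_subgroupOf] at hx
    rw [Subgroup.mem_normalizer_iff]
    intro y
    rw [← hP]
    exact Subgroup.mem_normalizer_iff.mp hx (y : G)
  refine dvd_trans (Subgroup.index_dvd_of_le hle) ?_
  show (Subgroup.normalizer ((P : Subgroup G) : Set G)).relIndex N ∣ _
  set H := Subgroup.normalizer ((P : Subgroup G) : Set G)
  have e1 := Subgroup.relIndex_mul_relIndex (H ⊓ N) H (H ⊔ N) inf_le_left le_sup_left
  have e2 := Subgroup.relIndex_mul_relIndex (H ⊓ N) N (H ⊔ N) inf_le_right le_sup_right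
  rw [Subgroup.inf_relIndex_left] at e1
  rw [Subgroup.inf_relIndex_right, Subgroup.relIndex_sup_right, ← e1, mul_comm] at e2
  have e3 := mul_left_cancel₀ (Subgroup.FiniteIndex.index_ne_zero :
    (N.subgroupOf H).index ≠ 0) e2
  rw [e3]
  exact Dvd.intro _ (Subgroup.relIndex_mul_index le_sup_left)

/-- if `n_r` is a power of `q`, a Sylow `q`-subgroup is transitive on Sylow `r`-subgroups -/
lemma transitive_of_card_eq {G : Type u} [Group G] [Finite G] {r q a : ℕ} [Fact r.Prime]
    [Fact q.Prime] (h : Nat.card (Sylow r G) = q ^ a) (T : Sylow q G) (P P' : Sylow r G) :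
    ∃ x ∈ (T : Subgroup G), x • P = P' := by
  have horb : MulAction.orbit (T : Subgroup G) P = Set.univ := by
    obtain ⟨m, hm⟩ := IsPGroup.iff_card.mp T.isPGroup'
    obtain ⟨j, hjm, hj⟩ := (Nat.dvd_prime_pow (Fact.out : q.Prime)).mp
      (hm ▸ (MulAction.index_stabilizer (T : Subgroup G) P ▸
        (MulAction.stabilizer (T : Subgroup G) P).index_dvd_card))
    -- compare with the stabiliser in `G`
    set S := MulAction.stabilizer (T : Subgroup G) P
    set N := Subgroup.normalizer ((P : Subgroup G) : Set G)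
    have hS : Nat.card S ∣ Nat.card N := by
      have hmap : S.map (T : Subgroup G).subtype ≤ N := by
        rintro _ ⟨x, hx, rfl⟩
        exact Sylow.smul_eq_iff_mem_normalizer.mp (MulAction.mem_stabilizer_iff.mp hx)
      exact (Subgroup.card_map_of_injective (K := S) (f := (T : Subgroup G).subtype) (T : Subgroup G).subtype_injective) ▸
        Subgroup.card_dvd_of_le hmap
    have hNcard : Nat.card N * q ^ a = Nat.card G := by
      rw [← h, Sylow.card_eq_index_normalizer P]; exact N.card_mul_index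
    obtain ⟨i, -, hi⟩ := (Nat.dvd_prime_pow (Fact.out : q.Prime)).mp (hm ▸ S.card_subgroup_dvd_card)
    have h1 : q ^ (i + a) ∣ Nat.card G := by
      rw [pow_add, ← hNcard]
      exact Nat.mul_dvd_mul_right (hi ▸ hS) _
    have h2 := T.pow_dvd_card_of_pow_dvd_card h1
    have h4 : i + a ≤ m := (Nat.pow_dvd_pow_iff_le_right (Fact.out : q.Prime).one_lt).mp (hm ▸ h2)
    have h5 : Nat.card S * S.index = q ^ m := by rw [S.card_mul_index, hm]
    rw [MulAction.index_stabilizer] at h5
    rw [hi, hj, ← pow_add] at h5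
    have h6 := Nat.pow_right_injective (Fact.out : q.Prime).two_le h5
    refine Set.eq_of_subset_of_ncard_le (Set.subset_univ _) ?_ (Set.toFinite _)
    rw [Set.ncard_univ, h, hj]
    exact Nat.pow_le_pow_right (Fact.out : q.Prime).pos (by omega)
  obtain ⟨x, hx⟩ := (horb ▸ Set.mem_univ P' : P' ∈ MulAction.orbit (T : Subgroup G) P)
  exact ⟨x, x.2, hx⟩

lemma exists_le_normalizer {G : Type u} [Group G] [Finite G] {r s : ℕ} [Fact r.Prime]
    [Fact s.Prime] (h : ¬ r ∣ Nat.card (Sylow s G)) (P : Sylow r G) :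
    ∃ S : Sylow s G, (P : Subgroup G) ≤ Subgroup.normalizer ((S : Subgroup G) : Set G) := by
  obtain ⟨S, hS⟩ := IsPGroup.nonempty_fixed_point_of_prime_not_dvd_card P.isPGroup' (Sylow s G) h
  exact ⟨S, fun x hx => Sylow.smul_eq_iff_mem_normalizer.mp (hS ⟨x, hx⟩)⟩

lemma le_normalizer_smul {G : Type u} [Group G] {r : ℕ} {H : Subgroup G} {x : G} (P : Sylow r G)
    (hx : ∀ y ∈ H, x⁻¹ * y * x ∈ H) (h : H ≤ Subgroup.normalizer ((P : Subgroup G) : Set G)) :
    H ≤ Subgroup.normalizer (((x • P : Sylow r G) : Subgroup G) : Set G) := by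
  intro y hy
  refine Sylow.smul_eq_iff_mem_normalizer.mp ?_
  have h1 := Sylow.smul_eq_iff_mem_normalizer.mpr (h (hx y hy))
  calc y • x • P = x • (x⁻¹ * y * x) • P := by simp [smul_smul, mul_assoc]
    _ = x • P := by rw [h1]

/-- A simple group with prime-power Sylow numbers has at most two prime divisors. -/
lemma eq_of_simple {G : Type u} [Group G] [Finite G] [IsSimpleGroup G] (hG : AllPrimePower G)
    (hnc : ¬ Group.IsNilpotent G) :
    ∃ p q : ℕ, p.Prime ∧ q.Prime ∧ ∀ r : ℕ, r.Prime → r ∣ Nat.card G → r = p ∨ r = q := by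
  classical
  -- Sylow subgroups are not normal
  have hnn : ∀ (r : ℕ), r.Prime → r ∣ Nat.card G → ∃ q, q.Prime ∧ q ∣ Nat.card G ∧ q ≠ r ∧
      ∃ a, Nat.card (Sylow r G) = q ^ a := by
    intro r hr hrd
    haveI := Fact.mk hr
    obtain ⟨P⟩ : Nonempty (Sylow r G) := Sylow.nonempty
    have h1 : Nat.card (Sylow r G) ≠ 1 := by
      intro h1
      haveI : Subsingleton (Sylow r G) := (Nat.card_eq_one_iff_unique.mp h1).1
      rcases P.normal_of_subsingleton.eq_bot_or_eq_top with h | h
      · exact P.ne_bot_of_dvd_card hrd h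
      · exact hnc ((P.isPGroup'.of_equiv
          ((MulEquiv.subgroupCongr h).trans Subgroup.topEquiv)).isNilpotent)
    rcases hG r with h | h
    · exact absurd h h1
    · obtain ⟨q, a, hq, ha, hqa⟩ := h
      have hq' := Nat.prime_iff.mpr hq
      have hqdvd : q ∣ Nat.card (Sylow r G) := hqa ▸ dvd_pow_self q ha.ne'
      refine ⟨q, hq', hqdvd.trans (P.card_dvd_index.trans (Subgroup.index_dvd_card _)), ?_, a,
        hqa.symm⟩
      rintro rfl
      exact not_dvd_card_sylow q G hqdvd
  choose f hfp hfd hfne fa hfa using hnn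
  -- the key contradiction
  have key : ∀ (r s : ℕ) (hr : r.Prime) (hrd : r ∣ Nat.card G) (hs : s.Prime)
      (hsd : s ∣ Nat.card G), r ≠ f s hs hsd → f r hr hrd = f s hs hsd := by
    intro r s hr hrd hs hsd hne
    by_contra hne'
    set t := f s hs hsd
    haveI := Fact.mk hr
    haveI := Fact.mk hs
    haveI := Fact.mk (hfp s hs hsd)
    obtain ⟨P⟩ : Nonempty (Sylow r G) := Sylow.nonempty
    obtain ⟨S, hS⟩ := exists_le_normalizer (r := r) (s := s) (by
      rw [hfa s hs hsd]
      exact fun h => hne ((Nat.prime_dvd_prime_iff_eq hr (hfp s hs hsd)).mp (hr.dvd_of_dvd_pow h))) P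
    obtain ⟨T₀⟩ : Nonempty (Sylow t G) := Sylow.nonempty
    obtain ⟨P₀, hP₀⟩ := exists_le_normalizer (r := t) (s := r) (by
      rw [hfa r hr hrd]
      exact fun h => hne' ((Nat.prime_dvd_prime_iff_eq (hfp s hs hsd) (hfp r hr hrd)).mp
        ((hfp s hs hsd).dvd_of_dvd_pow h)).symm) T₀
    -- move `T₀` so that it normalises `P`
    obtain ⟨g, hg⟩ := MulAction.exists_smul_eq G P₀ P
    set T := g • T₀
    have hT : (T : Subgroup G) ≤ Subgroup.normalizer ((P : Subgroup G) : Set G) := by
      intro y hy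
      replace hy : y ∈ MulAut.conj g • (T₀ : Subgroup G) := hy
      rw [Subgroup.mem_pointwise_smul_iff_inv_smul_mem] at hy
      have hy' : g⁻¹ * y * g ∈ (T₀ : Subgroup G) := by simpa [MulAut.smul_def, mul_assoc] using hy
      have h1 := Sylow.smul_eq_iff_mem_normalizer.mpr (hP₀ hy')
      refine Sylow.smul_eq_iff_mem_normalizer.mp ?_
      rw [← hg]
      calc y • g • P₀ = g • (g⁻¹ * y * g) • P₀ := by simp [smul_smul, mul_assoc]
        _ = g • P₀ := by rw [h1]
    -- so `P` normalises every Sylow `s`-subgroup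
    have hall : ∀ S' : Sylow s G,
        (P : Subgroup G) ≤ Subgroup.normalizer ((S' : Subgroup G) : Set G) := by
      intro S'
      obtain ⟨x, hxT, rfl⟩ := transitive_of_card_eq (hfa s hs hsd) T S S'
      refine le_normalizer_smul S (fun y hy => ?_) hS
      have hn := (Subgroup.normalizer ((P : Subgroup G) : Set G)).inv_mem (hT hxT)
      simpa using (Subgroup.mem_normalizer_iff.mp hn y).mp hy
    have hker : (P : Subgroup G) ≤ (MulAction.toPermHom G (Sylow s G)).ker := by
      intro y hy
      rw [MonoidHom.mem_ker]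
      exact Equiv.ext fun S' => Sylow.smul_eq_iff_mem_normalizer.mpr (hall S' hy)
    rcases (MonoidHom.normal_ker (MulAction.toPermHom G (Sylow s G))).eq_bot_or_eq_top with h | h
    · exact P.ne_bot_of_dvd_card hrd (eq_bot_iff.mpr (h ▸ hker))
    · have h1 : ∀ S' : Sylow s G, S' = S := by
        intro S'
        obtain ⟨x, rfl⟩ := MulAction.exists_smul_eq G S S'
        have hx : x ∈ (MulAction.toPermHom G (Sylow s G)).ker := h ▸ Subgroup.mem_top x
        rw [MonoidHom.mem_ker] at hx
        simpa using Equiv.congr_fun hx S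
      haveI : Subsingleton (Sylow s G) := ⟨fun a b => (h1 a).trans (h1 b).symm⟩
      have h2 : Nat.card (Sylow s G) = 1 := Nat.card_eq_one_iff_unique.mpr ⟨inferInstance, ⟨S⟩⟩
      rw [hfa s hs hsd] at h2
      rcases (pow_eq_one_iff.mp h2) with h3 | h3
      · exact (hfp s hs hsd).ne_one h3
      · rcases S.normal_of_subsingleton.eq_bot_or_eq_top with h | h
        · exact S.ne_bot_of_dvd_card hsd h
        · exact hnc ((S.isPGroup'.of_equiv
            ((MulEquiv.subgroupCongr h).trans Subgroup.topEquiv)).isNilpotent)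
  obtain ⟨s, hs, hsd⟩ : ∃ s : ℕ, s.Prime ∧ s ∣ Nat.card G :=
    Nat.exists_prime_and_dvd (Finite.one_lt_card (α := G)).ne'
  refine ⟨f s hs hsd, f _ (hfp s hs hsd) (hfd s hs hsd), hfp _ _ _, hfp _ _ _, fun r hr hrd => ?_⟩
  by_contra hne
  rw [not_or] at hne
  have h1 := key r s hr hrd hs hsd hne.1
  have h2 := key r _ hr hrd (hfp s hs hsd) (hfd s hs hsd) hne.2
  rw [h1] at h2
  exact hfne _ (hfp s hs hsd) (hfd s hs hsd) h2.symm

lemma isSolvable_of_burnside
    (burnside : ∀ (H : Type u) [Group H] [Finite H] (p q : ℕ), p.Prime → q.Prime →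
      (∀ r : ℕ, r.Prime → r ∣ Nat.card H → r = p ∨ r = q) → Group.IsSolvable H)
    (G : Type u) [Group G] [Finite G] (hG : AllPrimePower G) : Group.IsSolvable G := by
  induction hn : Nat.card G using Nat.strong_induction_on generalizing G with
  | _ n ih =>
    by_cases hnt : Nontrivial G
    · by_cases hs : IsSimpleGroup G
      · by_cases hnc : Group.IsNilpotent G
        · infer_instance
        · obtain ⟨p, q, hp, hq, h⟩ := eq_of_simple hG hnc
          exact burnside G p q hp hq h
      · obtain ⟨K, hKn, hK1, hK2⟩ : ∃ K : Subgroup G, K.Normal ∧ K ≠ ⊥ ∧ K ≠ ⊤ := by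
          by_contra hcon
          apply hs
          exact { eq_bot_or_eq_top_of_normal := fun H hH => by
                    by_contra h'
                    rw [not_or] at h'
                    exact hcon ⟨H, hH, h'.1, h'.2⟩ }
        have h1 : Nat.card K < n := hn ▸ lt_of_le_of_ne (Subgroup.card_le_card_group K)
          (fun h => hK2 (Subgroup.eq_top_of_card_eq K h))
        have h2 : Nat.card (G ⧸ K) < n := by
          rw [← hn, K.card_eq_card_quotient_mul_card_subgroup]
          exact lt_mul_of_one_lt_right Nat.card_pos ((Subgroup.one_lt_card_iff_ne_bot K).mpr hK1)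
        have hKs : Group.IsSolvable K :=
          ih _ h1 K (fun r _ => primePow_of_dvd (hG r) (card_sylow_normal_dvd K r)) rfl
        have hQs : Group.IsSolvable (G ⧸ K) :=
          ih _ h2 (G ⧸ K) (fun r _ => primePow_of_dvd (hG r) (card_sylow_quotient_dvd K r)) rfl
        exact (Group.isSolvable_iff_subgroup_quotient K).mpr ⟨hKs, hQs⟩
    · rw [not_nontrivial_iff_subsingleton] at hnt
      infer_instance

end Cfsg.Agent.SylowNumbers
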